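import Mathlib
import Groth.Prelude.Def_SGA3b
import Groth.Agent.Lib.Helper6.Isotriv.Orth

/-!
# A family of group-like elements of `T[M']` which is a basis modulo a nil ideal is a basis
(helper6)
-/

set_option autoImplicit false
set_option linter.unusedSectionVars false
set_option linter.unusedVariables false
set_option linter.unusedSimpArgs false
set_option linter.style.haveILetI false
set_option maxHeartbeats 400000
universe u
open TensorProduct SGA3b Coalgebra
open Groth.Agent.Lib.Helper6.MultType Groth.Agent.Lib.Helper6.Isotriv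

namespace Groth.Agent.Lib.Helper6.Lift

section Bij

variable {T : Type u} [CommRing T] {M' : Type u} [CommGroup M'] {M : Type u}

/-- If `c` lies under the `p`-th coefficient of the group-like `x`, then `c • x = c • p`. -/
lemma smul_eq_smul_single {x : MonoidAlgebra T M'} (hx : IsGroupLikeElem T x) (p : M') (c : T)
    (hc : c * x.coeff p = c) : c • x = c • MonoidAlgebra.single p (1 : T) := by
  classical
  ext q
  rw [MonoidAlgebra.coeff_smul_apply, MonoidAlgebra.coeff_smul_apply, MonoidAlgebra.coeff_single,
    Finsupp.single_apply, smul_eq_mul, smul_eq_mul]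
  by_cases hq : p = q
  · subst hq
    rw [if_pos rfl, mul_one, hc]
  · rw [if_neg hq, mul_zero, ← hc, mul_assoc, coeff_orth hx hq, mul_zero]

variable (G : M → MonoidAlgebra T M') (hG : ∀ m, IsGroupLikeElem T (G m))
variable (Hi : ∀ m n, m ≠ n → ∀ c : T, c * c = c → c • G m = c • G n → c = 0)

include hG Hi in
/-- Distinct members of the family have orthogonal coefficients. -/
lemma col_orth {m n : M} (hmn : m ≠ n) (p : M') : (G m).coeff p * (G n).coeff p = 0 := by
  apply Hi m n hmn
  · have h1 := coeff_idem (hG m) p
    have h2 := coeff_idem (hG n) p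
    calc (G m).coeff p * (G n).coeff p * ((G m).coeff p * (G n).coeff p) =
        ((G m).coeff p * (G m).coeff p) * ((G n).coeff p * (G n).coeff p) := by ring
      _ = (G m).coeff p * (G n).coeff p := by rw [h1, h2]
  · rw [smul_eq_smul_single (hG m) p, smul_eq_smul_single (hG n) p]
    · rw [mul_assoc, coeff_idem (hG n) p]
    · rw [mul_right_comm, coeff_idem (hG m) p]

include hG Hi in
lemma linearIndependent_of_Hi : LinearIndependent T G := by
  classical
  rw [linearIndependent_iff]
  intro l hl
  ext n
  rw [Finsupp.coe_zero, Pi.zero_apply]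
  have hp : ∀ p : M', l n * (G n).coeff p = 0 := by
    intro p
    have h1 := congrArg (fun y => (coeffL T M' p y) * (G n).coeff p) hl
    simp only [map_zero, zero_mul] at h1
    rw [Finsupp.linearCombination_apply, Finsupp.sum, map_sum, Finset.sum_mul] at h1
    rw [Finset.sum_eq_single n] at h1
    · rw [map_smul, coeffL_apply, smul_eq_mul, mul_assoc, coeff_idem (hG n) p] at h1
      exact h1
    · intro m _ hmn
      rw [map_smul, coeffL_apply, smul_eq_mul, mul_assoc, col_orth G hG Hi hmn p, mul_zero]
    · intro hn
      rw [Finsupp.notMem_support_iff.mp hn, zero_smul, map_zero, zero_mul]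
  have h2 := (hG n).counit_eq_one
  rw [counit_eq_sum, Finsupp.sum] at h2
  calc l n = l n * ∑ p ∈ (G n).coeff.support, (G n).coeff p := by rw [h2, mul_one]
    _ = ∑ p ∈ (G n).coeff.support, l n * (G n).coeff p := Finset.mul_sum _ _ _
    _ = 0 := Finset.sum_eq_zero fun p _ => hp p

variable (J : Ideal T) (hJ : ∀ x ∈ J, IsNilpotent x)
variable (Hs : ∀ y : MonoidAlgebra T M', ∃ w ∈ Submodule.span T (Set.range G),
  y - w ∈ Ideal.map (algebraMap T (MonoidAlgebra T M')) J)

include hG Hi hJ Hs in
lemma single_mem_span (p : M') :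
    MonoidAlgebra.single p (1 : T) ∈ Submodule.span T (Set.range G) := by
  classical
  obtain ⟨w, hw, hyw⟩ := Hs (MonoidAlgebra.single p 1)
  obtain ⟨l, rfl⟩ := (Finsupp.mem_span_range_iff_exists_finsupp).mp hw
  set F := l.support with hF
  set E : T := ∑ m ∈ F, (G m).coeff p with hE
  -- `E` absorbs each summand
  have hEm : ∀ m ∈ F, E * (G m).coeff p = (G m).coeff p := by
    intro m hm
    rw [hE, Finset.sum_mul, Finset.sum_eq_single m]
    · exact coeff_idem (hG m) p
    · intro n _ hnm
      exact col_orth G hG Hi hnm p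
    · intro h; exact absurd hm h
  have hEidem : E * E = E := by
    conv_lhs => rw [hE, Finset.mul_sum]
    rw [hE]
    exact Finset.sum_congr rfl fun m hm => hEm m hm
  -- the `p`-th coefficient of the congruence
  have h1 := linearMap_mem_of_mem_map T J (coeffL T M' p) hyw
  rw [map_sub, coeffL_apply, MonoidAlgebra.coeff_single, Finsupp.single_eq_same, Finsupp.sum,
    map_sum] at h1
  have h2 : (1 - E) * (1 - ∑ m ∈ F, coeffL T M' p (l m • G m)) = 1 - E := by
    rw [mul_sub, mul_one, Finset.mul_sum, Finset.sum_eq_zero, sub_zero]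
    intro m hm
    rw [map_smul, coeffL_apply, smul_eq_mul, mul_left_comm, sub_mul, one_mul, hEm m hm, sub_self,
      mul_zero]
  have h3 : 1 - E ∈ J := by
    rw [← h2]
    exact J.mul_mem_left _ h1
  have h4 : (1 - E) * (1 - E) = 1 - E := by
    linear_combination hEidem
  have h5 : 1 - E = 0 := by
    have := eq_of_idem_of_nilpotent h4 (show (0 : T) * 0 = 0 by ring)
      (by rw [sub_zero]; exact hJ _ h3)
    exact this
  have hE1 : E = 1 := by
    rw [← sub_eq_zero, ← neg_sub, h5, neg_zero]
  -- now write `single p 1` in terms of the family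
  have h6 : MonoidAlgebra.single p (1 : T) = ∑ m ∈ F, (G m).coeff p • G m := by
    calc MonoidAlgebra.single p (1 : T) = E • MonoidAlgebra.single p (1 : T) := by
          rw [hE1, one_smul]
      _ = ∑ m ∈ F, (G m).coeff p • MonoidAlgebra.single p (1 : T) := by
          rw [hE, Finset.sum_smul]
      _ = ∑ m ∈ F, (G m).coeff p • G m := Finset.sum_congr rfl fun m _ =>
          (smul_eq_smul_single (hG m) p _ (coeff_idem (hG m) p)).symm
  rw [h6]
  exact Submodule.sum_mem _ fun m _ =>
    Submodule.smul_mem _ _ (Submodule.subset_span (Set.mem_range_self m))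

include hG Hi hJ Hs in
lemma span_eq_top_of_Hs : Submodule.span T (Set.range G) = ⊤ := by
  rw [eq_top_iff]
  intro y _
  rw [← MonoidAlgebra.sum_coeff_single y, Finsupp.sum]
  refine Submodule.sum_mem _ fun p _ => ?_
  have : MonoidAlgebra.single p (y.coeff p) = y.coeff p • MonoidAlgebra.single p (1 : T) := by
    rw [MonoidAlgebra.smul_single, smul_eq_mul, mul_one]
  rw [this]
  exact Submodule.smul_mem _ _ (single_mem_span G hG Hi J hJ Hs p)

end Bij

end Groth.Agent.Lib.Helper6.Lift
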