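import Mathlib

/-!
# Faithfully flat descent of elements (exactness of the Amitsur complex in degree zero) (helper6)
-/

set_option autoImplicit false
set_option linter.unusedSectionVars false
set_option linter.unusedVariables false
set_option linter.unusedSimpArgs false
set_option linter.style.haveILetI false
set_option maxHeartbeats 400000
universe u
open TensorProduct

namespace Groth.Agent.Lib.Helper6.Lift

section Single

variable (R : Type u) [CommRing R] (S : Type u) [CommRing S] [Algebra R S]
variable (N : Type u) [AddCommGroup N] [Module R N]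

/-- `x ↦ 1 ⊗ x`. -/
noncomputable def dA : S ⊗[R] N →ₗ[R] S ⊗[R] (S ⊗[R] N) := TensorProduct.mk R S (S ⊗[R] N) 1

/-- `s ⊗ n ↦ s ⊗ (1 ⊗ n)`. -/
noncomputable def dB : S ⊗[R] N →ₗ[R] S ⊗[R] (S ⊗[R] N) :=
  LinearMap.lTensor S (TensorProduct.mk R S N 1)

@[simp] lemma dA_apply (x : S ⊗[R] N) : dA R S N x = (1 : S) ⊗ₜ[R] x := rfl
@[simp] lemma dB_tmul (s : S) (n : N) : dB R S N (s ⊗ₜ[R] n) = s ⊗ₜ[R] ((1 : S) ⊗ₜ[R] n) := rfl

/-- `a ⊗ (b ⊗ z) ↦ ab ⊗ z`. -/
noncomputable def contr (P : Type u) [AddCommGroup P] [Module R P] :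
    S ⊗[R] (S ⊗[R] P) →ₗ[R] S ⊗[R] P :=
  LinearMap.rTensor P (LinearMap.mul' R S) ∘ₗ (TensorProduct.assoc R S S P).symm.toLinearMap

@[simp] lemma contr_tmul (P : Type u) [AddCommGroup P] [Module R P] (a b : S) (z : P) :
    contr R S P (a ⊗ₜ[R] (b ⊗ₜ[R] z)) = (a * b) ⊗ₜ[R] z := by
  simp [contr]

lemma contr_dA (y : S ⊗[R] (S ⊗[R] N)) :
    contr R S (S ⊗[R] N) (LinearMap.lTensor S (dA R S N) y) = y := by
  induction y using TensorProduct.induction_on with
  | zero => simp
  | tmul a w =>
    rw [LinearMap.lTensor_tmul, dA_apply, contr_tmul, mul_one]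
  | add y z hy hz => rw [map_add, map_add, hy, hz]

lemma contr_dB (y : S ⊗[R] (S ⊗[R] N)) :
    contr R S (S ⊗[R] N) (LinearMap.lTensor S (dB R S N) y) =
      LinearMap.lTensor S (TensorProduct.mk R S N 1) (contr R S N y) := by
  induction y using TensorProduct.induction_on with
  | zero => simp
  | tmul a w =>
    induction w using TensorProduct.induction_on with
    | zero => simp
    | tmul b n =>
      rw [LinearMap.lTensor_tmul, dB_tmul, contr_tmul, contr_tmul, LinearMap.lTensor_tmul]
      rfl
    | add w z hw hz =>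
      rw [TensorProduct.tmul_add, map_add, map_add, hw, hz, map_add, map_add]
  | add y z hy hz => rw [map_add, map_add, hy, hz, map_add, map_add]

/-- Faithfully flat descent of elements. -/
theorem exists_of_dA_eq_dB [Module.FaithfullyFlat R S] (x : S ⊗[R] N)
    (hx : dA R S N x = dB R S N x) : ∃ n : N, x = (1 : S) ⊗ₜ[R] n := by
  have hex : Function.Exact (TensorProduct.mk R S N 1) (dA R S N - dB R S N) := by
    apply Module.FaithfullyFlat.lTensor_reflects_exact R S
    intro y
    constructor
    · intro hy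
      rw [LinearMap.lTensor_sub, LinearMap.sub_apply, sub_eq_zero] at hy
      have h1 := congrArg (contr R S (S ⊗[R] N)) hy
      rw [contr_dA, contr_dB] at h1
      exact ⟨contr R S N y, h1.symm⟩
    · rintro ⟨z, rfl⟩
      induction z using TensorProduct.induction_on with
      | zero => simp
      | tmul a n =>
        rw [LinearMap.lTensor_tmul, LinearMap.lTensor_tmul]
        simp
      | add y z hy hz => rw [map_add, map_add, hy, hz, add_zero]
  have h0 : (dA R S N - dB R S N) x = 0 := by
    rw [LinearMap.sub_apply, hx, sub_self]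
  obtain ⟨n, hn⟩ := (hex x).mp h0
  exact ⟨n, hn.symm⟩

end Single

end Groth.Agent.Lib.Helper6.Lift
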