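import Mathlib
import Groth.Agent.Lib.Helper6.Lift.Amitsur

/-!
# Descent of elements along a jointly faithfully flat finite family (helper6)
-/

set_option autoImplicit false
set_option linter.unusedSectionVars false
set_option linter.unusedVariables false
set_option linter.unusedSimpArgs false
set_option linter.style.haveILetI false
set_option maxHeartbeats 400000
universe u
open TensorProduct

namespace Groth.Agent.Lib.Helper6.Lift

section Family

variable {R : Type u} [CommRing R] {ι : Type u} [Fintype ι] [DecidableEq ι]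
variable (S : ι → Type u) [∀ i, CommRing (S i)] [∀ i, Algebra R (S i)]
variable (N : Type u) [AddCommGroup N] [Module R N]

lemma piLeft_tmul' (t : ∀ i, S i) (n : N) :
    TensorProduct.piLeft R N S (t ⊗ₜ n) = fun i => t i ⊗ₜ n := by
  funext i
  simp [TensorProduct.piLeft]

/-- The `(i, j)` component `P ⊗ (P ⊗ N) → S i ⊗ (S j ⊗ N)`. -/
noncomputable def comp₂ (i j : ι) : (∀ i, S i) ⊗[R] ((∀ i, S i) ⊗[R] N) →ₗ[R] S i ⊗[R] (S j ⊗[R] N) :=
  TensorProduct.map (LinearMap.proj i) (TensorProduct.map (LinearMap.proj j) LinearMap.id)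

@[simp] lemma comp₂_tmul (i j : ι) (p q : ∀ i, S i) (n : N) :
    comp₂ S N i j (p ⊗ₜ[R] (q ⊗ₜ[R] n)) = p i ⊗ₜ[R] (q j ⊗ₜ[R] n) := by
  simp [comp₂]

lemma comp₂_eq (i j : ι) (z : (∀ i, S i) ⊗[R] ((∀ i, S i) ⊗[R] N)) :
    comp₂ S N i j z = TensorProduct.piRight R R (S i) (fun j => S j ⊗[R] N)
      (LinearMap.lTensor (S i) (TensorProduct.piLeft R N S).toLinearMap
        (TensorProduct.piLeft R ((∀ i, S i) ⊗[R] N) S z i)) j := by
  induction z using TensorProduct.induction_on with
  | zero => simp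
  | tmul p w =>
    induction w using TensorProduct.induction_on with
    | zero => simp
    | tmul q n =>
      rw [comp₂_tmul, piLeft_tmul', LinearMap.lTensor_tmul, LinearEquiv.coe_coe, piLeft_tmul',
        TensorProduct.piRight_apply, TensorProduct.piRightHom_tmul]
    | add w z hw hz =>
      rw [TensorProduct.tmul_add, map_add, hw, hz, map_add]
      simp only [Pi.add_apply, map_add]
  | add y z hy hz =>
    rw [map_add, hy, hz, map_add]
    simp only [Pi.add_apply, map_add]

lemma comp₂_injective {z z' : (∀ i, S i) ⊗[R] ((∀ i, S i) ⊗[R] N)}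
    (h : ∀ i j, comp₂ S N i j z = comp₂ S N i j z') : z = z' := by
  apply (TensorProduct.piLeft R ((∀ i, S i) ⊗[R] N) S).injective
  funext i
  have hinj : Function.Injective
      (LinearMap.lTensor (S i) (TensorProduct.piLeft R N S).toLinearMap) := by
    have : (LinearMap.lTensor (S i) (TensorProduct.piLeft R N S).toLinearMap) =
        ((TensorProduct.piLeft R N S).lTensor (S i)).toLinearMap := rfl
    rw [this]
    exact LinearEquiv.injective _
  apply hinj
  apply (TensorProduct.piRight R R (S i) (fun j => S j ⊗[R] N)).injective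
  funext j
  rw [← comp₂_eq, ← comp₂_eq]
  exact h i j

lemma faithfullyFlat_pi [∀ i, Module.Flat R (S i)]
    (hJF : ∀ 𝔭 : Ideal R, 𝔭 ≠ ⊤ → ∃ i, Ideal.map (algebraMap R (S i)) 𝔭 ≠ ⊤) :
    Module.FaithfullyFlat R (∀ i, S i) := by
  haveI : Module.Flat R (∀ i, S i) := Module.Flat.of_linearEquiv
    (DirectSum.linearEquivFunOnFintype R ι S).symm
  rw [Module.FaithfullyFlat.iff_flat_and_proper_ideal]
  refine ⟨inferInstance, ?_⟩
  intro 𝔭 h𝔭 htop
  obtain ⟨i, hi⟩ := hJF 𝔭 h𝔭
  apply hi
  rw [Ideal.eq_top_iff_one]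
  have h1 : (1 : ∀ i, S i) ∈ 𝔭 • (⊤ : Submodule R (∀ i, S i)) := by
    rw [htop]; exact Submodule.mem_top
  have h2 : ∀ y ∈ 𝔭 • (⊤ : Submodule R (∀ i, S i)),
      y i ∈ Ideal.map (algebraMap R (S i)) 𝔭 := by
    intro y hy
    refine Submodule.smul_induction_on hy ?_ ?_
    · intro r hr n _
      rw [Pi.smul_apply, Algebra.smul_def]
      exact Ideal.mul_mem_right _ _ (Ideal.mem_map_of_mem _ hr)
    · intro x y hx hy
      rw [Pi.add_apply]
      exact Ideal.add_mem _ hx hy
  exact h2 1 h1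

/-- Descent of elements along a jointly faithfully flat finite family. -/
theorem exists_of_compat [∀ i, Module.Flat R (S i)]
    (hJF : ∀ 𝔭 : Ideal R, 𝔭 ≠ ⊤ → ∃ i, Ideal.map (algebraMap R (S i)) 𝔭 ≠ ⊤)
    (x : ∀ i, S i ⊗[R] N)
    (hx : ∀ i j, (1 : S i) ⊗ₜ[R] x j =
      LinearMap.lTensor (S i) (TensorProduct.mk R (S j) N 1) (x i)) :
    ∃ n : N, ∀ i, x i = (1 : S i) ⊗ₜ[R] n := by
  haveI := faithfullyFlat_pi S hJF
  set X := (TensorProduct.piLeft R N S).symm x with hX
  have hXi : ∀ i, TensorProduct.piLeft R N S X i = x i := by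
    intro i
    rw [hX, LinearEquiv.apply_symm_apply]
  have hA : ∀ i j, comp₂ S N i j (dA R (∀ i, S i) N X) = (1 : S i) ⊗ₜ[R] x j := by
    intro i j
    rw [dA_apply]
    have : ∀ Y : (∀ i, S i) ⊗[R] N, comp₂ S N i j ((1 : ∀ i, S i) ⊗ₜ[R] Y) =
        (1 : S i) ⊗ₜ[R] (TensorProduct.piLeft R N S Y j) := by
      intro Y
      induction Y using TensorProduct.induction_on with
      | zero => simp
      | tmul q n => rw [comp₂_tmul, piLeft_tmul']; rfl
      | add y z hy hz =>
        rw [TensorProduct.tmul_add, map_add, hy, hz, map_add, Pi.add_apply,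
          TensorProduct.tmul_add]
    rw [this, hXi]
  have hB : ∀ i j, comp₂ S N i j (dB R (∀ i, S i) N X) =
      LinearMap.lTensor (S i) (TensorProduct.mk R (S j) N 1) (x i) := by
    intro i j
    have : ∀ Y : (∀ i, S i) ⊗[R] N, comp₂ S N i j (dB R (∀ i, S i) N Y) =
        LinearMap.lTensor (S i) (TensorProduct.mk R (S j) N 1)
          (TensorProduct.piLeft R N S Y i) := by
      intro Y
      induction Y using TensorProduct.induction_on with
      | zero => simp
      | tmul q n =>
        rw [dB_tmul, comp₂_tmul, piLeft_tmul', LinearMap.lTensor_tmul]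
        rfl
      | add y z hy hz =>
        rw [map_add, map_add, hy, hz, map_add, Pi.add_apply, map_add]
    rw [this, hXi]
  have hAB : dA R (∀ i, S i) N X = dB R (∀ i, S i) N X := by
    apply comp₂_injective S N
    intro i j
    rw [hA, hB, hx]
  obtain ⟨n, hn⟩ := exists_of_dA_eq_dB R (∀ i, S i) N X hAB
  refine ⟨n, fun i => ?_⟩
  rw [← hXi, hn, piLeft_tmul']
  rfl

/-- Vanishing can be tested on a jointly faithfully flat finite family. -/
theorem eq_zero_of_family [∀ i, Module.Flat R (S i)]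
    (hJF : ∀ 𝔭 : Ideal R, 𝔭 ≠ ⊤ → ∃ i, Ideal.map (algebraMap R (S i)) 𝔭 ≠ ⊤)
    (z : N) (hz : ∀ i, (1 : S i) ⊗ₜ[R] z = 0) : z = 0 := by
  haveI := faithfullyFlat_pi S hJF
  rw [← Module.FaithfullyFlat.one_tmul_eq_zero_iff R N (A := ∀ i, S i)]
  apply (TensorProduct.piLeft R N S).injective
  rw [piLeft_tmul', map_zero]
  funext i
  exact hz i

end Family

end Groth.Agent.Lib.Helper6.Lift
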