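import Mathlib
import Groth.Prelude.Def_SGA3b
import Groth.Agent.Lib.Helper6.MultType.Descent
import Groth.Agent.Lib.Helper6.Lift.Family

/-!
# A finite jointly faithfully flat family of charts of a group of multiplicative type (helper6)
-/

set_option autoImplicit false
set_option linter.unusedSectionVars false
set_option linter.unusedVariables false
set_option linter.unusedSimpArgs false
set_option linter.style.haveILetI false
set_option maxHeartbeats 400000
universe u
open TensorProduct SGA3b Coalgebra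
open Groth.Agent.Lib.Helper6.MultType

namespace Groth.Agent.Lib.Helper6.Lift

/-- A flat chart of a Hopf algebra: a flat algebra over which it becomes diagonalisable. -/
structure Chart (R A : Type u) [CommRing R] [CommRing A] [HopfAlgebra R A] where
  /-- the ring of the chart -/
  S : Type u
  [ring : CommRing S]
  [alg : Algebra R S]
  flat : Module.Flat R S
  diag : IsDiag S (S ⊗[R] A)

attribute [instance] Chart.ring Chart.alg

variable {R : Type u} [CommRing R] {A : Type u} [CommRing A] [HopfAlgebra R A]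

instance (c : Chart R A) : Module.Flat R c.S := c.flat

lemma chart_of_mem (f : R)
    (hf : IsMultTypeConst (Localization.Away f) (Localization.Away f ⊗[R] A)) :
    ∃ c : Chart R A, ∀ 𝔪 : Ideal R, 𝔪.IsMaximal → f ∉ 𝔪 →
      Ideal.map (algebraMap R c.S) 𝔪 ≠ ⊤ := by
  obtain ⟨R', _, _, hff, hd⟩ := hf
  letI : Algebra R R' :=
    ((algebraMap (Localization.Away f) R').comp (algebraMap R (Localization.Away f))).toAlgebra
  haveI : IsScalarTower R (Localization.Away f) R' := IsScalarTower.of_algebraMap_eq' rfl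
  haveI : Module.Flat R (Localization.Away f) := IsLocalization.flat _ (Submonoid.powers f)
  refine ⟨⟨R', Module.Flat.trans R (Localization.Away f) R',
    IsDiag.of_tower (Localization.Away f) R' hd⟩, ?_⟩
  intro 𝔪 h𝔪 hfm
  have hdisj : Disjoint (Submonoid.powers f : Set R) (𝔪 : Set R) := by
    rw [Set.disjoint_left]
    rintro x ⟨n, rfl⟩ hx
    exact hfm (h𝔪.isPrime.mem_of_pow_mem n hx)
  have hprime := IsLocalization.isPrime_of_isPrime_disjoint (Submonoid.powers f)
    (Localization.Away f) 𝔪 h𝔪.isPrime hdisj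
  have hne := ((Module.FaithfullyFlat.iff_flat_and_proper_ideal _ _).mp hff).2 _ hprime.ne_top
  intro htop
  apply hne
  rw [Ideal.smul_top_eq_map]
  have h1 : Ideal.map (algebraMap R R') 𝔪 ≤
      Ideal.map (algebraMap (Localization.Away f) R')
        (Ideal.map (algebraMap R (Localization.Away f)) 𝔪) := by
    rw [Ideal.map_map]
    exact le_rfl
  have htop' : Ideal.map (algebraMap R R') 𝔪 = ⊤ := htop
  rw [htop', top_le_iff] at h1
  rw [h1]
  rfl

/-- A finite jointly faithfully flat family of charts. -/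
theorem IsMultType.exists_charts (h : IsMultType R A) :
    ∃ (ι : Type u) (_ : Fintype ι) (_ : DecidableEq ι) (c : ι → Chart R A),
      ∀ 𝔭 : Ideal R, 𝔭 ≠ ⊤ → ∃ i, Ideal.map (algebraMap R (c i).S) 𝔭 ≠ ⊤ := by
  classical
  obtain ⟨s, hs, H⟩ := h
  obtain ⟨s', hs's, hs'⟩ := (Ideal.span_eq_top_iff_finite s).mp hs
  have hc : ∀ f : s', ∃ c : Chart R A, ∀ 𝔪 : Ideal R, 𝔪.IsMaximal → f.1 ∉ 𝔪 →
      Ideal.map (algebraMap R c.S) 𝔪 ≠ ⊤ := fun f => chart_of_mem f.1 (H f.1 (hs's f.2))
  choose c hc' using hc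
  refine ⟨s', inferInstance, inferInstance, c, ?_⟩
  intro 𝔭 h𝔭
  obtain ⟨𝔪, h𝔪, hle⟩ := 𝔭.exists_le_maximal h𝔭
  obtain ⟨f, hfs, hf⟩ : ∃ f ∈ s', f ∉ 𝔪 := by
    by_contra hcon
    push_neg at hcon
    have : Ideal.span (s' : Set R) ≤ 𝔪 := Ideal.span_le.mpr hcon
    rw [hs'] at this
    exact h𝔪.ne_top (top_le_iff.mp this)
  refine ⟨⟨f, hfs⟩, ?_⟩
  intro htop
  apply hc' ⟨f, hfs⟩ 𝔪 h𝔪 hf
  rw [eq_top_iff, ← htop]
  exact Ideal.map_mono hle

end Groth.Agent.Lib.Helper6.Lift
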