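import Mathlib
import Groth.Prelude.Def_SGA3b
import Groth.Agent.Lib.Helper6.Isotriv.Orth
import Groth.Agent.Lib.Helper6.MultType.PowConv

/-!
# Elements which are group-like modulo an ideal, and their lifting in a group algebra (helper6)
-/

set_option autoImplicit false
set_option linter.unusedSectionVars false
set_option linter.unusedVariables false
set_option linter.unusedSimpArgs false
set_option linter.style.haveILetI false
set_option maxHeartbeats 400000
universe u
open TensorProduct SGA3b Coalgebra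
open Groth.Agent.Lib.Helper6.MultType Groth.Agent.Lib.Helper6.Isotriv

namespace Groth.Agent.Lib.Helper6.Lift

section Defs

variable {T : Type u} [CommRing T] {X : Type u} [CommRing X] [Bialgebra T X]

/-- `y` is group-like modulo `J`. -/
def GLMod (J : Ideal T) (y : X) : Prop :=
  comul (R := T) y - y ⊗ₜ[T] y ∈ Ideal.map (algebraMap T (X ⊗[T] X)) J ∧
    counit (R := T) y - 1 ∈ J

lemma GLMod.map {Y : Type u} [CommRing Y] [Bialgebra T Y] (e : X →ₐc[T] Y) {J : Ideal T} {y : X}
    (hy : GLMod J y) : GLMod J (e y) := by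
  refine ⟨?_, ?_⟩
  · have h1 := algHom_mem_map (Algebra.TensorProduct.map (e : X →ₐ[T] Y) (e : X →ₐ[T] Y)) J hy.1
    rw [map_sub, Algebra.TensorProduct.map_tmul] at h1
    have h2 : Algebra.TensorProduct.map (e : X →ₐ[T] Y) (e : X →ₐ[T] Y) (comul (R := T) y) =
        comul (R := T) (e y) := CoalgHomClass.map_comp_comul_apply e y
    rw [h2] at h1
    exact h1
  · rw [CoalgHomClass.counit_comp_apply]
    exact hy.2

end Defs

section Kernel

variable {R : Type u} [CommRing R] {Z : Type u} [CommRing Z] [Algebra R Z]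

/-- The kernel of `Z → (R/I) ⊗ Z`. -/
lemma mem_map_of_one_tmul_eq_zero' (I : Ideal R) (a : Z)
    (h : (1 : R ⧸ I) ⊗ₜ[R] a = 0) : a ∈ Ideal.map (algebraMap R Z) I := by
  have h1 := congrArg (TensorProduct.quotTensorEquivQuotSMul Z I) h
  rw [map_zero] at h1
  have h2 : (TensorProduct.quotTensorEquivQuotSMul Z I)
      ((Ideal.Quotient.mk I (1 : R)) ⊗ₜ[R] a) = 0 := h1
  rw [TensorProduct.quotTensorEquivQuotSMul_mk_tmul, one_smul, Submodule.Quotient.mk_eq_zero,
    Ideal.smul_top_eq_map] at h2
  exact h2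

lemma one_tmul_eq_zero_of_mem_map (I : Ideal R) (a : Z)
    (h : a ∈ Ideal.map (algebraMap R Z) I) : (1 : R ⧸ I) ⊗ₜ[R] a = 0 := by
  have h' : a ∈ (I • ⊤ : Submodule R Z) := by
    rw [Ideal.smul_top_eq_map]; exact h
  refine Submodule.smul_induction_on h' ?_ ?_
  · intro r hr n _
    rw [← TensorProduct.smul_tmul, Algebra.smul_def, mul_one]
    have : algebraMap R (R ⧸ I) r = 0 := Ideal.Quotient.eq_zero_iff_mem.mpr hr
    rw [this, TensorProduct.zero_tmul]
  · intro x y hx hy
    rw [TensorProduct.tmul_add, hx, hy, add_zero]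

end Kernel

section Reduction

variable {R : Type u} [CommRing R] {A : Type u} [CommRing A] [Bialgebra R A]

/-- An element whose reduction modulo `I` is group-like is group-like modulo `I`. -/
lemma glMod_of_quotient (I : Ideal R) (b : A)
    (hb : IsGroupLikeElem (R ⧸ I) ((1 : R ⧸ I) ⊗ₜ[R] b)) : GLMod I b := by
  refine ⟨?_, ?_⟩
  · apply mem_map_of_one_tmul_eq_zero'
    have h := hb.comul_eq_tmul_self
    rw [comul_one_tmul, ← T₀_tmul, ← sub_eq_zero] at h
    have h' : T₀ R (R ⧸ I) A (comul (R := R) b - b ⊗ₜ[R] b) = 0 := by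
      rw [map_sub]; exact h
    rw [T₀_eq] at h'
    exact (TensorProduct.AlgebraTensorModule.distribBaseChange R (R ⧸ I) A A).injective
      (h'.trans (map_zero _).symm)
  · have h := hb.counit_eq_one
    rw [counit_one_tmul] at h
    have : algebraMap R (R ⧸ I) (counit (R := R) b - 1) = 0 := by
      rw [map_sub, h, map_one, sub_self]
    exact Ideal.Quotient.eq_zero_iff_mem.mp this

/-- Base change of `GLMod`. -/
lemma GLMod.baseChange {I : Ideal R} {b : A} (hb : GLMod I b) (S : Type u) [CommRing S]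
    [Algebra R S] : GLMod (I.map (algebraMap R S)) ((1 : S) ⊗ₜ[R] b) := by
  refine ⟨?_, ?_⟩
  · rw [comul_one_tmul, ← T₀_tmul]
    have h0 : T₀ R S A (comul (R := R) b) - T₀ R S A (b ⊗ₜ[R] b) =
        T₀ R S A (comul (R := R) b - b ⊗ₜ[R] b) := by rw [map_sub]
    rw [h0]
    have h1 : T₀ R S A (comul (R := R) b - b ⊗ₜ[R] b) ∈
        Ideal.map (T₀ R S A) (Ideal.map (algebraMap R (A ⊗[R] A)) I) :=
      Ideal.mem_map_of_mem _ hb.1
    rw [Ideal.map_map] at h1
    have h2 : (T₀ R S A).comp (algebraMap R (A ⊗[R] A)) =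
        (algebraMap S ((S ⊗[R] A) ⊗[S] (S ⊗[R] A))).comp (algebraMap R S) := by
      ext r
      exact T₀_algebraMap R S A r
    rw [h2, ← Ideal.map_map] at h1
    exact h1
  · rw [counit_one_tmul]
    have : algebraMap R S (counit (R := R) b) - 1 = algebraMap R S (counit (R := R) b - 1) := by
      rw [map_sub, map_one]
    rw [this]
    exact Ideal.mem_map_of_mem _ hb.2

end Reduction

end Groth.Agent.Lib.Helper6.Lift
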