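import Mathlib
import Groth.Prelude.Def_SGA3b
import Groth.Agent.Lib.Helper6.Lift.GLMod

/-!
# Lifting group-like elements of a group algebra modulo a nil ideal (helper6)
-/

set_option autoImplicit false
set_option linter.unusedSectionVars false
set_option linter.unusedVariables false
set_option linter.unusedSimpArgs false
set_option linter.style.haveILetI false
set_option maxHeartbeats 400000
universe u
open TensorProduct SGA3b Coalgebra
open Groth.Agent.Lib.Helper6.MultType Groth.Agent.Lib.Helper6.Isotriv

namespace Groth.Agent.Lib.Helper6.Lift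

section DiagLift

variable {T : Type u} [CommRing T] {M : Type u} [CommGroup M]

lemma comul_single' (m : M) (r : T) :
    comul (R := T) (MonoidAlgebra.single m r : MonoidAlgebra T M) =
      MonoidAlgebra.single m 1 ⊗ₜ[T] MonoidAlgebra.single m r := by
  rw [MonoidAlgebra.comul_single, CommSemiring.comul_apply, TensorProduct.map_tmul]
  rfl

lemma single_tmul_single (m n : M) (a b : T) :
    (MonoidAlgebra.single m a : MonoidAlgebra T M) ⊗ₜ[T] (MonoidAlgebra.single n b) =
      (a * b) • ((MonoidAlgebra.single m 1 : MonoidAlgebra T M) ⊗ₜ[T]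
        (MonoidAlgebra.single n 1 : MonoidAlgebra T M)) := by
  have e1 : (MonoidAlgebra.single m a : MonoidAlgebra T M) = a • MonoidAlgebra.single m 1 := by
    rw [MonoidAlgebra.smul_single, smul_eq_mul, mul_one]
  have e2 : (MonoidAlgebra.single n b : MonoidAlgebra T M) = b • MonoidAlgebra.single n 1 := by
    rw [MonoidAlgebra.smul_single, smul_eq_mul, mul_one]
  rw [e1, e2, TensorProduct.smul_tmul_smul]

/-- A complete family of orthogonal idempotents gives a group-like element. -/
lemma isGroupLikeElem_sum_of_COI {ι : Type u} [Fintype ι] [DecidableEq ι] (μ : ι → M) (e : ι → T)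
    (he : CompleteOrthogonalIdempotents e) :
    IsGroupLikeElem T (∑ i, (MonoidAlgebra.single (μ i) (e i) : MonoidAlgebra T M)) where
  counit_eq_one := by
    rw [map_sum]
    simp only [MonoidAlgebra.counit_single, CommSemiring.counit_apply]
    exact he.complete
  comul_eq_tmul_self := by
    rw [map_sum, TensorProduct.sum_tmul]
    refine Finset.sum_congr rfl fun i _ => ?_
    have hL : comul (R := T) (MonoidAlgebra.single (μ i) (e i) : MonoidAlgebra T M) =
        e i • ((MonoidAlgebra.single (μ i) 1 : MonoidAlgebra T M) ⊗ₜ[T]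
          (MonoidAlgebra.single (μ i) 1 : MonoidAlgebra T M)) := by
      rw [comul_single', single_tmul_single, one_mul]
    have hR : (MonoidAlgebra.single (μ i) (e i) : MonoidAlgebra T M) ⊗ₜ[T]
        (∑ j, (MonoidAlgebra.single (μ j) (e j) : MonoidAlgebra T M)) =
        e i • ((MonoidAlgebra.single (μ i) 1 : MonoidAlgebra T M) ⊗ₜ[T]
          (MonoidAlgebra.single (μ i) 1 : MonoidAlgebra T M)) := by
      rw [TensorProduct.tmul_sum, Finset.sum_eq_single i]
      · rw [single_tmul_single, (he.idem i).eq]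
      · intro j _ hji
        rw [single_tmul_single, he.ortho (Ne.symm hji), zero_smul]
      · intro h; exact absurd (Finset.mem_univ i) h
    rw [hL, hR]

/-- In a group algebra, an element which is group-like modulo a nil ideal is congruent to a
group-like element. -/
theorem exists_groupLike_diag (J : Ideal T) (hJ : ∀ x ∈ J, IsNilpotent x)
    {Y : MonoidAlgebra T M} (hY : GLMod J Y) :
    ∃ x', IsGroupLikeElem T x' ∧
      x' - Y ∈ Ideal.map (algebraMap T (MonoidAlgebra T M)) J := by
  classical
  set F := Y.coeff.support with hF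
  have h_idem : ∀ m, Y.coeff m * Y.coeff m - Y.coeff m ∈ J := by
    intro m
    have h1 := linearMap_mem_of_mem_map T J (coeffL₂ T M m) hY.1
    rw [map_sub, coeffL₂_comul, coeffL₂_tmul] at h1
    have : Y.coeff m * Y.coeff m - Y.coeff m = -(Y.coeff m - Y.coeff m * Y.coeff m) := by ring
    rw [this]
    exact J.neg_mem h1
  have h_orth : ∀ m n, m ≠ n → Y.coeff m * Y.coeff n ∈ J := by
    intro m n hmn
    have h1 := linearMap_mem_of_mem_map T J (coeffL₂' m n) hY.1
    rw [map_sub, coeffL₂'_comul_of_ne hmn, coeffL₂'_tmul, zero_sub] at h1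
    exact (Ideal.neg_mem_iff _).mp h1
  have h_sum : ∑ m ∈ F, Y.coeff m - 1 ∈ J := by
    have h1 := hY.2
    rw [counit_eq_sum, Finsupp.sum] at h1
    exact h1
  let ē : F → T ⧸ J := fun i => Ideal.Quotient.mk J (Y.coeff i.1)
  have hē : CompleteOrthogonalIdempotents ē := by
    refine ⟨⟨?_, ?_⟩, ?_⟩
    · intro i
      show ē i * ē i = ē i
      simp only [ē]
      rw [← map_mul]
      exact (Ideal.Quotient.eq (I := J)).mpr (h_idem i.1)
    · intro i j hij
      show ē i * ē j = 0
      simp only [ē]
      rw [← map_mul]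
      exact Ideal.Quotient.eq_zero_iff_mem.mpr
        (h_orth i.1 j.1 (fun h => hij (Subtype.ext h)))
    · show ∑ i, ē i = 1
      simp only [ē]
      rw [← map_sum, Finset.sum_coe_sort F (fun m => Y.coeff m), ← map_one (Ideal.Quotient.mk J)]
      exact (Ideal.Quotient.eq (I := J)).mpr h_sum
  obtain ⟨e', he', hcomp⟩ := CompleteOrthogonalIdempotents.lift_of_isNilpotent_ker
    (Ideal.Quotient.mk J) (fun x hx => hJ x (Ideal.Quotient.eq_zero_iff_mem.mp hx)) hē
    (fun i => ⟨Y.coeff i.1, rfl⟩)
  refine ⟨∑ i : F, MonoidAlgebra.single i.1 (e' i),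
    isGroupLikeElem_sum_of_COI (fun i : F => i.1) e' he', ?_⟩
  have hYsum : Y = ∑ i : F, MonoidAlgebra.single i.1 (Y.coeff i.1) := by
    conv_lhs => rw [← MonoidAlgebra.sum_coeff_single Y, Finsupp.sum]
    rw [Finset.sum_coe_sort F (fun m => MonoidAlgebra.single m (Y.coeff m))]
  have key : (∑ i : F, (MonoidAlgebra.single i.1 (e' i) : MonoidAlgebra T M)) - Y =
      ∑ i : F, ((MonoidAlgebra.single i.1 (e' i) : MonoidAlgebra T M) -
        MonoidAlgebra.single i.1 (Y.coeff i.1)) := by
    rw [Finset.sum_sub_distrib, ← hYsum]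
  rw [key]
  refine Ideal.sum_mem _ fun i _ => ?_
  have h1 : e' i - Y.coeff i.1 ∈ J := by
    have := congrFun hcomp i
    simp only [Function.comp_apply, ē] at this
    exact (Ideal.Quotient.eq (I := J)).mp this
  have h2 : (MonoidAlgebra.single i.1 (e' i) : MonoidAlgebra T M) -
      MonoidAlgebra.single i.1 (Y.coeff i.1) = MonoidAlgebra.single i.1 (e' i - Y.coeff i.1) := by
    rw [MonoidAlgebra.single_sub]
  rw [h2, MonoidAlgebra.single_eq_algebraMap_mul_of]
  exact Ideal.mul_mem_right _ _ (Ideal.mem_map_of_mem _ h1)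

/-- In a diagonalisable Hopf algebra, an element which is group-like modulo a nil ideal is
congruent to a group-like element. -/
theorem exists_groupLike_of_glMod {X : Type u} [CommRing X] [HopfAlgebra T X] (hd : IsDiag T X)
    (J : Ideal T) (hJ : ∀ x ∈ J, IsNilpotent x) {y : X} (hy : GLMod J y) :
    ∃ x, IsGroupLikeElem T x ∧ x - y ∈ Ideal.map (algebraMap T X) J := by
  obtain ⟨M, _, ⟨e⟩⟩ := hd
  obtain ⟨x', hx', hx'Y⟩ := exists_groupLike_diag J hJ
    (hy.map (e : X →ₐc[T] MonoidAlgebra T M))
  refine ⟨e.symm x', hx'.map e.symm, ?_⟩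
  have h1 := algHom_mem_map (e.symm : MonoidAlgebra T M →ₐ[T] X) J hx'Y
  rw [map_sub] at h1
  have h2 : (e.symm : MonoidAlgebra T M →ₐ[T] X) ((e : X →ₐc[T] MonoidAlgebra T M) y) = y :=
    e.symm_apply_apply y
  rw [h2] at h1
  exact h1

end DiagLift

end Groth.Agent.Lib.Helper6.Lift
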