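import Mathlib
import Groth.Prelude.Def_SGA3b
import Groth.Agent.Lib.Helper6.Lift.DiagLift
import Groth.Agent.Lib.Helper6.Lift.Charts
import Groth.Agent.Lib.Helper6.MultType.Mono

/-!
# Lifting group-like elements of a group of multiplicative type modulo a nil ideal (helper6)
-/

set_option autoImplicit false
set_option linter.unusedSectionVars false
set_option linter.unusedVariables false
set_option linter.unusedSimpArgs false
set_option linter.style.haveILetI false
set_option maxHeartbeats 400000
universe u
open TensorProduct SGA3b Coalgebra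
open Groth.Agent.Lib.Helper6.MultType Groth.Agent.Lib.Helper6.Isotriv

namespace Groth.Agent.Lib.Helper6.Lift

section Nil

variable {R : Type u} [CommRing R]

lemma map_nil (I : Ideal R) (hI : ∀ x ∈ I, IsNilpotent x) (S : Type u) [CommRing S] [Algebra R S] :
    I.map (algebraMap R S) ≤ nilradical S := by
  rw [Ideal.map_le_iff_le_comap]
  intro x hx
  rw [Ideal.mem_comap, mem_nilradical]
  exact (hI x hx).map _

lemma map_le_map_nilradical (I : Ideal R) (hI : ∀ x ∈ I, IsNilpotent x) (S : Type u) [CommRing S]
    [Algebra R S] (X : Type u) [CommRing X] [Algebra R X] [Algebra S X] [IsScalarTower R S X] :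
    Ideal.map (algebraMap R X) I ≤ Ideal.map (algebraMap S X) (nilradical S) := by
  rw [← map_map_tower (R' := S)]
  exact Ideal.map_mono (map_nil I hI S)

end Nil

section Assoc

variable {R : Type u} [CommRing R] (A : Type u) [CommRing A] [Bialgebra R A]
variable (S₁ S₂ : Type u) [CommRing S₁] [CommRing S₂] [Algebra R S₁] [Algebra R S₂]

lemma assoc_push_left (y : S₁ ⊗[R] A) :
    TensorProduct.assoc R S₁ S₂ A
      (push A (Algebra.TensorProduct.includeLeft : S₁ →ₐ[R] S₁ ⊗[R] S₂) y) =
      LinearMap.lTensor S₁ (TensorProduct.mk R S₂ A 1) y := by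
  induction y using TensorProduct.induction_on with
  | zero => simp
  | tmul s a => simp
  | add y z hy hz => rw [map_add, map_add, hy, hz, map_add]

lemma assoc_push_right (y : S₂ ⊗[R] A) :
    TensorProduct.assoc R S₁ S₂ A
      (push A (Algebra.TensorProduct.includeRight : S₂ →ₐ[R] S₁ ⊗[R] S₂) y) =
      (1 : S₁) ⊗ₜ[R] y := by
  induction y using TensorProduct.induction_on with
  | zero => simp
  | tmul s a => simp
  | add y z hy hz => rw [map_add, map_add, hy, hz, TensorProduct.tmul_add]

end Assoc

section Rigid

variable {R : Type u} [CommRing R] {A : Type u} [CommRing A] [HopfAlgebra R A]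

/-- Rigidity of group-like elements of a group of multiplicative type. -/
theorem groupLike_eq_of_nil_multType (h : IsMultType R A) (I : Ideal R)
    (hI : ∀ x ∈ I, IsNilpotent x) {g g' : A} (hg : IsGroupLikeElem R g)
    (hg' : IsGroupLikeElem R g') (hd : g - g' ∈ Ideal.map (algebraMap R A) I) : g = g' := by
  rw [← sub_eq_zero]
  apply IsMultType.eq_zero_of_forall_chart h
  intro R' _ _ _ hdiag
  rw [TensorProduct.tmul_sub, sub_eq_zero]
  apply groupLike_eq_of_nil hdiag (isGroupLikeElem_one_tmul R' hg) (isGroupLikeElem_one_tmul R' hg')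
  apply map_le_map_nilradical I hI R' (R' ⊗[R] A)
  have := algHom_mem_map (Algebra.TensorProduct.includeRight : A →ₐ[R] R' ⊗[R] A) I hd
  rw [map_sub] at this
  exact this

end Rigid

end Groth.Agent.Lib.Helper6.Lift
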