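import Mathlib
import Groth.Prelude.Def_SGA3b
import Groth.Agent.Lib.Helper6.Lift.Main

/-!
# Lifting group-like elements of a group of multiplicative type modulo a nil ideal, II (helper6)
-/

set_option autoImplicit false
set_option linter.unusedSectionVars false
set_option linter.unusedVariables false
set_option linter.unusedSimpArgs false
set_option linter.style.haveILetI false
set_option maxHeartbeats 400000
universe u
open TensorProduct SGA3b Coalgebra
open Groth.Agent.Lib.Helper6.MultType Groth.Agent.Lib.Helper6.Isotriv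

namespace Groth.Agent.Lib.Helper6.Lift

section Compat

variable {R : Type u} [CommRing R] {A : Type u} [CommRing A] [HopfAlgebra R A]

lemma push_one_tmul {S₁ S₂ : Type u} [CommRing S₁] [CommRing S₂] [Algebra R S₁] [Algebra R S₂]
    (φ : S₁ →ₐ[R] S₂) (b : A) : push A φ ((1 : S₁) ⊗ₜ[R] b) = (1 : S₂) ⊗ₜ[R] b := by
  rw [push_tmul, map_one]

/-- Two group-like lifts of the same element agree after pushing to a common ring. -/
lemma compat_aux (I : Ideal R) (hI : ∀ x ∈ I, IsNilpotent x)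
    (𝕋 S₁ S₂ : Type u) [CommRing 𝕋] [CommRing S₁] [CommRing S₂] [Algebra R 𝕋] [Algebra R S₁]
    [Algebra R S₂] (φ₁ : S₁ →ₐ[R] 𝕋) (φ₂ : S₂ →ₐ[R] 𝕋) (hd : IsDiag S₁ (S₁ ⊗[R] A))
    (b : A) {x₁ : S₁ ⊗[R] A} {x₂ : S₂ ⊗[R] A} (hx₁ : IsGroupLikeElem S₁ x₁)
    (hx₂ : IsGroupLikeElem S₂ x₂)
    (h₁ : x₁ - (1 : S₁) ⊗ₜ[R] b ∈ Ideal.map (algebraMap R (S₁ ⊗[R] A)) I)
    (h₂ : x₂ - (1 : S₂) ⊗ₜ[R] b ∈ Ideal.map (algebraMap R (S₂ ⊗[R] A)) I) :
    push A φ₁ x₁ = push A φ₂ x₂ := by
  have hdT : IsDiag 𝕋 (𝕋 ⊗[R] A) := by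
    letI : Algebra S₁ 𝕋 := φ₁.toRingHom.toAlgebra
    haveI : IsScalarTower R S₁ 𝕋 := IsScalarTower.of_algebraMap_eq fun r => (φ₁.commutes r).symm
    exact IsDiag.of_tower S₁ 𝕋 (IsDiag.baseChange hd 𝕋)
  apply groupLike_eq_of_nil hdT (push_groupLike A φ₁ hx₁) (push_groupLike A φ₂ hx₂)
  apply map_le_map_nilradical I hI 𝕋 (𝕋 ⊗[R] A)
  have e1 := algHom_mem_map (push A φ₁) I h₁
  have e2 := algHom_mem_map (push A φ₂) I h₂
  rw [map_sub, push_one_tmul] at e1 e2
  have : push A φ₁ x₁ - push A φ₂ x₂ =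
      (push A φ₁ x₁ - (1 : 𝕋) ⊗ₜ[R] b) - (push A φ₂ x₂ - (1 : 𝕋) ⊗ₜ[R] b) := by ring
  rw [this]
  exact Ideal.sub_mem _ e1 e2

end Compat

section FamilyGL

variable {R : Type u} [CommRing R] {A : Type u} [CommRing A] [HopfAlgebra R A]
variable {ι : Type u} [Fintype ι] [DecidableEq ι]
variable (S : ι → Type u) [∀ i, CommRing (S i)] [∀ i, Algebra R (S i)] [∀ i, Module.Flat R (S i)]

/-- Group-likeness can be tested on a jointly faithfully flat finite family. -/
lemma isGroupLikeElem_of_family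
    (hJF : ∀ 𝔭 : Ideal R, 𝔭 ≠ ⊤ → ∃ i, Ideal.map (algebraMap R (S i)) 𝔭 ≠ ⊤)
    {g : A} (hg : ∀ i, IsGroupLikeElem (S i) ((1 : S i) ⊗ₜ[R] g)) : IsGroupLikeElem R g where
  counit_eq_one := by
    rw [← sub_eq_zero]
    apply eq_zero_of_family S R hJF
    intro i
    have h := (hg i).counit_eq_one
    rw [counit_one_tmul] at h
    have h2 : (1 : S i) ⊗ₜ[R] (counit (R := R) g - 1 : R) =
        (algebraMap R (S i) (counit (R := R) g - 1)) ⊗ₜ[R] (1 : R) := by
      rw [Algebra.algebraMap_eq_smul_one, TensorProduct.smul_tmul, smul_eq_mul, mul_one]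
    rw [h2, map_sub, h, map_one, sub_self, TensorProduct.zero_tmul]
  comul_eq_tmul_self := by
    rw [← sub_eq_zero]
    apply eq_zero_of_family S (A ⊗[R] A) hJF
    intro i
    have h := (hg i).comul_eq_tmul_self
    rw [comul_one_tmul, ← T₀_tmul, ← sub_eq_zero] at h
    have h' : T₀ R (S i) A (comul (R := R) g - g ⊗ₜ[R] g) = 0 := by
      rw [map_sub]; exact h
    rw [T₀_eq] at h'
    exact (TensorProduct.AlgebraTensorModule.distribBaseChange R (S i) A A).injective
      (h'.trans (map_zero _).symm)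

/-- Membership in an extended ideal can be tested on a jointly faithfully flat finite family. -/
lemma mem_map_of_family
    (hJF : ∀ 𝔭 : Ideal R, 𝔭 ≠ ⊤ → ∃ i, Ideal.map (algebraMap R (S i)) 𝔭 ≠ ⊤)
    (I : Ideal R) {a : A}
    (ha : ∀ i, (1 : S i) ⊗ₜ[R] a ∈ Ideal.map (algebraMap R (S i ⊗[R] A)) I) :
    a ∈ Ideal.map (algebraMap R A) I := by
  have hz : Ideal.Quotient.mk (Ideal.map (algebraMap R A) I) a = 0 := by
    apply eq_zero_of_family S (A ⧸ Ideal.map (algebraMap R A) I) hJF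
    intro i
    have h1 := algHom_mem_map (Algebra.TensorProduct.map (AlgHom.id R (S i))
      (Ideal.Quotient.mkₐ R (Ideal.map (algebraMap R A) I))) I (ha i)
    rw [Algebra.TensorProduct.map_tmul, AlgHom.id_apply, Ideal.Quotient.mkₐ_eq_mk] at h1
    have h2 : Ideal.map (algebraMap R (S i ⊗[R] (A ⧸ Ideal.map (algebraMap R A) I))) I = ⊥ := by
      rw [eq_bot_iff, Ideal.map_le_iff_le_comap]
      intro r hr
      rw [Ideal.mem_comap, Ideal.mem_bot, Algebra.algebraMap_eq_smul_one,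
        Algebra.TensorProduct.one_def, ← TensorProduct.tmul_smul]
      have : r • (1 : A ⧸ Ideal.map (algebraMap R A) I) = 0 := by
        rw [← Algebra.algebraMap_eq_smul_one, IsScalarTower.algebraMap_apply R A,
          Ideal.Quotient.algebraMap_eq, Ideal.Quotient.eq_zero_iff_mem]
        exact Ideal.mem_map_of_mem _ hr
      rw [this, TensorProduct.tmul_zero]
    rw [h2, Ideal.mem_bot] at h1
    exact h1
  exact Ideal.Quotient.eq_zero_iff_mem.mp hz

end FamilyGL

section LiftGL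

variable {R : Type u} [CommRing R] {A : Type u} [CommRing A] [HopfAlgebra R A]

/-- In a group of multiplicative type, an element which is group-like modulo a nil ideal is
congruent to a group-like element. -/
theorem exists_groupLike_lift (h : IsMultType R A) (I : Ideal R) (hI : ∀ x ∈ I, IsNilpotent x)
    {b : A} (hb : GLMod I b) :
    ∃ g, IsGroupLikeElem R g ∧ g - b ∈ Ideal.map (algebraMap R A) I := by
  obtain ⟨ι, _, _, c, hJF⟩ := IsMultType.exists_charts h
  have hx : ∀ i, ∃ x : (c i).S ⊗[R] A, IsGroupLikeElem (c i).S x ∧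
      x - (1 : (c i).S) ⊗ₜ[R] b ∈ Ideal.map (algebraMap R ((c i).S ⊗[R] A)) I := by
    intro i
    obtain ⟨x, hx1, hx2⟩ := exists_groupLike_of_glMod (c i).diag
      (I.map (algebraMap R (c i).S))
      (fun y hy => by
        have := map_nil I hI (c i).S hy
        exact mem_nilradical.mp this)
      (hb.baseChange (c i).S)
    rw [map_map_tower] at hx2
    exact ⟨x, hx1, hx2⟩
  choose x hx1 hx2 using hx
  have hcompat : ∀ i j, (1 : (c i).S) ⊗ₜ[R] x j =
      LinearMap.lTensor (c i).S (TensorProduct.mk R (c j).S A 1) (x i) := by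
    intro i j
    rw [← assoc_push_left A (c i).S (c j).S (x i), ← assoc_push_right A (c i).S (c j).S (x j)]
    congr 1
    exact (compat_aux I hI ((c i).S ⊗[R] (c j).S) (c i).S (c j).S _ _ (c i).diag b (hx1 i) (hx1 j)
      (hx2 i) (hx2 j)).symm
  obtain ⟨g, hg⟩ := exists_of_compat (fun i => (c i).S) A hJF x hcompat
  refine ⟨g, ?_, ?_⟩
  · apply isGroupLikeElem_of_family (fun i => (c i).S) hJF
    intro i
    rw [← hg i]
    exact hx1 i
  · apply mem_map_of_family (fun i => (c i).S) hJF I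
    intro i
    rw [TensorProduct.tmul_sub, ← hg i]
    exact hx2 i

end LiftGL

end Groth.Agent.Lib.Helper6.Lift
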