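import Mathlib
import Groth.Prelude.Def_SGA3b
import Groth.Agent.Lib.Helper6.Lift.GLLift
import Groth.Agent.Lib.Helper6.Lift.Bij

/-!
# A group of multiplicative type which is diagonalisable modulo a nil ideal is diagonalisable
(helper6)
-/

set_option autoImplicit false
set_option linter.unusedSectionVars false
set_option linter.unusedVariables false
set_option linter.unusedSimpArgs false
set_option linter.style.haveILetI false
set_option maxHeartbeats 400000
universe u
open TensorProduct SGA3b Coalgebra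
open Groth.Agent.Lib.Helper6.MultType Groth.Agent.Lib.Helper6.Isotriv

namespace Groth.Agent.Lib.Helper6.Lift

section Quot

variable {R : Type u} [CommRing R] (I : Ideal R) (N : Type u) [AddCommGroup N] [Module R N]

lemma exists_one_tmul (y : (R ⧸ I) ⊗[R] N) : ∃ a : N, (1 : R ⧸ I) ⊗ₜ[R] a = y := by
  induction y using TensorProduct.induction_on with
  | zero => exact ⟨0, TensorProduct.tmul_zero _ _⟩
  | tmul r a =>
    obtain ⟨r, rfl⟩ := Ideal.Quotient.mk_surjective r
    refine ⟨r • a, ?_⟩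
    rw [TensorProduct.tmul_smul, TensorProduct.smul_tmul', Algebra.smul_def, mul_one]
    rfl
  | add y z hy hz =>
    obtain ⟨a, rfl⟩ := hy
    obtain ⟨b, rfl⟩ := hz
    exact ⟨a + b, TensorProduct.tmul_add _ _ _⟩

/-- `c ⊗ 1 = 0` in `T ⊗ R/I` forces `c ∈ I T`. -/
lemma mem_map_of_tmul_one_eq_zero {T : Type u} [CommRing T] [Algebra R T] (c : T)
    (h : c ⊗ₜ[R] (1 : R ⧸ I) = 0) : c ∈ Ideal.map (algebraMap R T) I := by
  apply mem_map_of_one_tmul_eq_zero' I c
  have := congrArg (TensorProduct.comm R T (R ⧸ I)) h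
  rw [TensorProduct.comm_tmul, map_zero] at this
  exact this

end Quot

section Construction

variable {R : Type u} [CommRing R] {A : Type u} [CommRing A] [HopfAlgebra R A]
variable (I : Ideal R) (hI : ∀ x ∈ I, IsNilpotent x) (h : IsMultType R A)
variable {M : Type u} [CommGroup M] (e₀ : (R ⧸ I) ⊗[R] A ≃ₐc[R ⧸ I] MonoidAlgebra (R ⧸ I) M)

include hI h in
lemma exists_gl_lift (m : M) : ∃ g : A, IsGroupLikeElem R g ∧
    (1 : R ⧸ I) ⊗ₜ[R] g = e₀.symm (MonoidAlgebra.single m 1) := by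
  obtain ⟨b, hb⟩ := exists_one_tmul I A (e₀.symm (MonoidAlgebra.single m 1))
  have hgl : IsGroupLikeElem (R ⧸ I) ((1 : R ⧸ I) ⊗ₜ[R] b) := by
    rw [hb]
    exact (MonoidAlgebra.isGroupLikeElem_single_one (R := R ⧸ I) (A := R ⧸ I) m).map e₀.symm
  obtain ⟨g, hg, hgb⟩ := exists_groupLike_lift h I hI (glMod_of_quotient I b hgl)
  refine ⟨g, hg, ?_⟩
  rw [← hb, ← sub_eq_zero, ← TensorProduct.tmul_sub]
  exact one_tmul_eq_zero_of_mem_map I _ hgb

include hI h in
lemma gl_lift_unique {g g' : A} (hg : IsGroupLikeElem R g) (hg' : IsGroupLikeElem R g')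
    (heq : (1 : R ⧸ I) ⊗ₜ[R] g = (1 : R ⧸ I) ⊗ₜ[R] g') : g = g' := by
  apply groupLike_eq_of_nil_multType h I hI hg hg'
  apply mem_map_of_one_tmul_eq_zero' I
  rw [TensorProduct.tmul_sub, heq, sub_self]

/-- The lifted characters. -/
noncomputable def γ : M →* GroupLike R A where
  toFun m := ⟨(exists_gl_lift I hI h e₀ m).choose, (exists_gl_lift I hI h e₀ m).choose_spec.1⟩
  map_one' := by
    apply GroupLike.val_injective
    apply gl_lift_unique I hI h (exists_gl_lift I hI h e₀ 1).choose_spec.1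
      (GroupLike.isGroupLikeElem_val (1 : GroupLike R A))
    rw [(exists_gl_lift I hI h e₀ 1).choose_spec.2, ← MonoidAlgebra.one_def, map_one]
    rfl
  map_mul' m n := by
    apply GroupLike.val_injective
    apply gl_lift_unique I hI h (exists_gl_lift I hI h e₀ (m * n)).choose_spec.1
      (GroupLike.isGroupLikeElem_val (_ * _ : GroupLike R A))
    rw [(exists_gl_lift I hI h e₀ (m * n)).choose_spec.2, GroupLike.val_mul]
    have h1 : (1 : R ⧸ I) ⊗ₜ[R] ((exists_gl_lift I hI h e₀ m).choose *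
        (exists_gl_lift I hI h e₀ n).choose) =
        ((1 : R ⧸ I) ⊗ₜ[R] (exists_gl_lift I hI h e₀ m).choose) *
          ((1 : R ⧸ I) ⊗ₜ[R] (exists_gl_lift I hI h e₀ n).choose) := by
      rw [Algebra.TensorProduct.tmul_mul_tmul, one_mul]
    rw [h1, (exists_gl_lift I hI h e₀ m).choose_spec.2, (exists_gl_lift I hI h e₀ n).choose_spec.2,
      ← map_mul, MonoidAlgebra.single_mul_single, one_mul]

lemma γ_spec (m : M) : (1 : R ⧸ I) ⊗ₜ[R] (γ I hI h e₀ m).val = e₀.symm (MonoidAlgebra.single m 1) :=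
  (exists_gl_lift I hI h e₀ m).choose_spec.2

lemma e₀_γ (m : M) : e₀ ((1 : R ⧸ I) ⊗ₜ[R] (γ I hI h e₀ m).val) = MonoidAlgebra.single m 1 := by
  rw [γ_spec, BialgEquiv.apply_symm_apply]

/-- The comparison map `R[M] → A`. -/
noncomputable def ψ : MonoidAlgebra R M →ₐc[R] A :=
  (MonoidAlgebra.liftGroupLikeBialgHom (R := R) (A := A)).comp
    (MonoidAlgebra.mapDomainBialgHom R (γ I hI h e₀))

lemma ψ_single (m : M) (r : R) :
    ψ I hI h e₀ (MonoidAlgebra.single m r) = r • (γ I hI h e₀ m).val := by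
  simp [ψ, MonoidAlgebra.liftGroupLikeBialgHom, Algebra.smul_def]

/-- The `m`-th coefficient of the reduction. -/
noncomputable def lam (m : M) : A →ₗ[R] (R ⧸ I) :=
  ((coeffL (R ⧸ I) M m).restrictScalars R) ∘ₗ
    ((e₀ : (R ⧸ I) ⊗[R] A →ₗ[R ⧸ I] MonoidAlgebra (R ⧸ I) M).restrictScalars R) ∘ₗ
      (TensorProduct.mk R (R ⧸ I) A 1)

lemma lam_apply (m : M) (a : A) : lam I e₀ m a = (e₀ ((1 : R ⧸ I) ⊗ₜ[R] a)).coeff m := rfl

lemma lam_γ_self (m : M) : lam I e₀ m (γ I hI h e₀ m).val = 1 := by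
  classical
  rw [lam_apply, e₀_γ, MonoidAlgebra.coeff_single, Finsupp.single_eq_same]

lemma lam_γ_ne {m n : M} (hmn : m ≠ n) : lam I e₀ m (γ I hI h e₀ n).val = 0 := by
  classical
  rw [lam_apply, e₀_γ, MonoidAlgebra.coeff_single, Finsupp.single_apply, if_neg (Ne.symm hmn)]

/-- Every element of `A` is congruent modulo `I A` to a combination of the lifted characters. -/
lemma exists_span_γ (a : A) : ∃ w ∈ Submodule.span R (Set.range fun m => (γ I hI h e₀ m).val),
    a - w ∈ Ideal.map (algebraMap R A) I := by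
  have key : ∀ y : MonoidAlgebra (R ⧸ I) M,
      ∃ w ∈ Submodule.span R (Set.range fun m => (γ I hI h e₀ m).val),
        (1 : R ⧸ I) ⊗ₜ[R] w = e₀.symm y := by
    intro y
    induction y using MonoidAlgebra.induction_linear with
    | zero => exact ⟨0, Submodule.zero_mem _, by rw [TensorProduct.tmul_zero, map_zero]⟩
    | add x y hx hy =>
      obtain ⟨w₁, hw₁, e1⟩ := hx
      obtain ⟨w₂, hw₂, e2⟩ := hy
      exact ⟨w₁ + w₂, Submodule.add_mem _ hw₁ hw₂, by rw [TensorProduct.tmul_add, e1, e2, map_add]⟩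
    | single m r =>
      obtain ⟨r, rfl⟩ := Ideal.Quotient.mk_surjective r
      refine ⟨r • (γ I hI h e₀ m).val,
        Submodule.smul_mem _ _ (Submodule.subset_span (Set.mem_range_self m)), ?_⟩
      have e1 : (MonoidAlgebra.single m (Ideal.Quotient.mk I r) : MonoidAlgebra (R ⧸ I) M) =
          (Ideal.Quotient.mk I r) • MonoidAlgebra.single m 1 := by
        rw [MonoidAlgebra.smul_single, smul_eq_mul, mul_one]
      rw [e1, map_smul, ← γ_spec I hI h e₀ m, TensorProduct.tmul_smul, TensorProduct.smul_tmul',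
        TensorProduct.smul_tmul', Algebra.smul_def, mul_one, smul_eq_mul, mul_one]
      rfl
  obtain ⟨w, hw, e1⟩ := key (e₀ ((1 : R ⧸ I) ⊗ₜ[R] a))
  refine ⟨w, hw, ?_⟩
  apply mem_map_of_one_tmul_eq_zero' I
  rw [TensorProduct.tmul_sub, e1, BialgEquiv.symm_apply_apply, sub_self]

section Chart

variable (T : Type u) [CommRing T] [Algebra R T]

/-- Condition (Hi) for the family `1 ⊗ γ m` in `T ⊗ A`. -/
lemma Hi_tensor {m n : M} (hmn : m ≠ n) (c : T) (hc : c * c = c)
    (hcc : c • ((1 : T) ⊗ₜ[R] (γ I hI h e₀ m).val) = c • ((1 : T) ⊗ₜ[R] (γ I hI h e₀ n).val)) :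
    c = 0 := by
  have h1 := congrArg (LinearMap.lTensor T (lam I e₀ m)) hcc
  rw [TensorProduct.smul_tmul', TensorProduct.smul_tmul', smul_eq_mul, mul_one,
    LinearMap.lTensor_tmul, LinearMap.lTensor_tmul, lam_γ_self, lam_γ_ne I hI h e₀ hmn,
    TensorProduct.tmul_zero] at h1
  have h2 := mem_map_of_tmul_one_eq_zero I c h1
  have h3 : IsNilpotent c := mem_nilradical.mp (map_nil I hI T h2)
  exact eq_of_idem_of_nilpotent hc (show (0 : T) * 0 = 0 by ring) (by rw [sub_zero]; exact h3)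

/-- Condition (Hs) for the family `1 ⊗ γ m` in `T ⊗ A`. -/
lemma Hs_tensor (y : T ⊗[R] A) :
    ∃ w ∈ Submodule.span T (Set.range fun m => (1 : T) ⊗ₜ[R] (γ I hI h e₀ m).val),
      y - w ∈ Ideal.map (algebraMap R (T ⊗[R] A)) I := by
  induction y using TensorProduct.induction_on with
  | zero => exact ⟨0, Submodule.zero_mem _, by rw [sub_zero]; exact Ideal.zero_mem _⟩
  | tmul s a =>
    obtain ⟨w, hw, hd⟩ := exists_span_γ I hI h e₀ a
    refine ⟨s ⊗ₜ[R] w, ?_, ?_⟩
    · refine Submodule.span_induction (p := fun w _ => s ⊗ₜ[R] w ∈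
        Submodule.span T (Set.range fun m => (1 : T) ⊗ₜ[R] (γ I hI h e₀ m).val)) ?_ ?_ ?_ ?_ hw
      · rintro _ ⟨m, rfl⟩
        have : s ⊗ₜ[R] (γ I hI h e₀ m).val = s • ((1 : T) ⊗ₜ[R] (γ I hI h e₀ m).val) := by
          rw [TensorProduct.smul_tmul', smul_eq_mul, mul_one]
        rw [this]
        exact Submodule.smul_mem _ _ (Submodule.subset_span (Set.mem_range_self m))
      · rw [TensorProduct.tmul_zero]; exact Submodule.zero_mem _
      · intro x y _ _ hx hy
        rw [TensorProduct.tmul_add]; exact Submodule.add_mem _ hx hy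
      · intro r x _ hx
        rw [TensorProduct.tmul_smul, ← algebraMap_smul T r (s ⊗ₜ[R] x)]
        exact Submodule.smul_mem _ _ hx
    · rw [← TensorProduct.tmul_sub]
      have h1 := algHom_mem_map (Algebra.TensorProduct.includeRight : A →ₐ[R] T ⊗[R] A) I hd
      have h2 : s ⊗ₜ[R] (a - w) = (s ⊗ₜ[R] (1 : A)) *
          (Algebra.TensorProduct.includeRight : A →ₐ[R] T ⊗[R] A) (a - w) := by
        rw [Algebra.TensorProduct.includeRight_apply, Algebra.TensorProduct.tmul_mul_tmul, mul_one,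
          one_mul]
      rw [h2]
      exact Ideal.mul_mem_left _ _ h1
  | add y z hy hz =>
    obtain ⟨w₁, hw₁, e1⟩ := hy
    obtain ⟨w₂, hw₂, e2⟩ := hz
    refine ⟨w₁ + w₂, Submodule.add_mem _ hw₁ hw₂, ?_⟩
    have : y + z - (w₁ + w₂) = (y - w₁) + (z - w₂) := by ring
    rw [this]
    exact Ideal.add_mem _ e1 e2

/-- Over a chart, the family `1 ⊗ γ m` is a basis of `T ⊗ A`. -/
theorem chart_basis (hd : IsDiag T (T ⊗[R] A)) :
    LinearIndependent T (fun m => (1 : T) ⊗ₜ[R] (γ I hI h e₀ m).val) ∧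
      Submodule.span T (Set.range fun m => (1 : T) ⊗ₜ[R] (γ I hI h e₀ m).val) = ⊤ := by
  obtain ⟨M', _, ⟨e⟩⟩ := hd
  set v : M → T ⊗[R] A := fun m => (1 : T) ⊗ₜ[R] (γ I hI h e₀ m).val with hv
  set G : M → MonoidAlgebra T M' := fun m => e (v m) with hGdef
  have hG : ∀ m, IsGroupLikeElem T (G m) := fun m =>
    (isGroupLikeElem_one_tmul T (γ I hI h e₀ m).isGroupLikeElem_val).map e
  have Hi : ∀ m n, m ≠ n → ∀ c : T, c * c = c → c • G m = c • G n → c = 0 := by
    intro m n hmn c hc hcc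
    apply Hi_tensor I hI h e₀ T hmn c hc
    have h1 : (e : T ⊗[R] A →ₗ[T] MonoidAlgebra T M') (c • v m) =
        (e : T ⊗[R] A →ₗ[T] MonoidAlgebra T M') (c • v n) := by
      rw [LinearMap.map_smul, LinearMap.map_smul]
      exact hcc
    exact e.injective h1
  have Hs : ∀ y : MonoidAlgebra T M', ∃ w ∈ Submodule.span T (Set.range G),
      y - w ∈ Ideal.map (algebraMap T (MonoidAlgebra T M')) (I.map (algebraMap R T)) := by
    intro y
    obtain ⟨w, hw, hd⟩ := Hs_tensor I hI h e₀ T (e.symm y)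
    refine ⟨e w, ?_, ?_⟩
    · have : Set.range G = (e : T ⊗[R] A →ₗ[T] MonoidAlgebra T M') '' Set.range v := by
        rw [← Set.range_comp]; rfl
      rw [this, ← Submodule.map_span]
      exact Submodule.mem_map_of_mem hw
    · rw [← map_map_tower (R' := T)] at hd
      have h1 := algHom_mem_map (e : T ⊗[R] A →ₐ[T] MonoidAlgebra T M') _ hd
      rw [map_sub] at h1
      have h2 : (e : T ⊗[R] A →ₐ[T] MonoidAlgebra T M') (e.symm y) = y := e.apply_symm_apply y
      rw [h2] at h1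
      exact h1
  have hJ : ∀ x ∈ I.map (algebraMap R T), IsNilpotent x := fun x hx =>
    mem_nilradical.mp (map_nil I hI T hx)
  have hli := linearIndependent_of_Hi G hG Hi
  have hsp := span_eq_top_of_Hs G hG Hi _ hJ Hs
  refine ⟨?_, ?_⟩
  · exact LinearIndependent.of_comp (e : T ⊗[R] A →ₗ[T] MonoidAlgebra T M') hli
  · rw [eq_top_iff]
    intro y _
    have h1 : e y ∈ Submodule.span T (Set.range G) := by rw [hsp]; exact Submodule.mem_top
    have h2 : Set.range G = (e : T ⊗[R] A →ₗ[T] MonoidAlgebra T M') '' Set.range v := by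
      rw [← Set.range_comp]; rfl
    rw [h2, ← Submodule.map_span] at h1
    obtain ⟨y', hy', hyy⟩ := h1
    have : y' = y := e.injective hyy
    rw [← this]
    exact hy'

end Chart

section Final

include hI h in
theorem ψ_injective : Function.Injective (ψ I hI h e₀) := by
  classical
  obtain ⟨ι, _, _, c, hJF⟩ := IsMultType.exists_charts h
  rw [injective_iff_map_eq_zero]
  intro z hz
  ext m
  rw [MonoidAlgebra.coeff_zero, Finsupp.coe_zero, Pi.zero_apply]
  apply eq_zero_of_family (fun i => (c i).S) R hJF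
  intro i
  obtain ⟨hli, -⟩ := chart_basis I hI h e₀ (c i).S (c i).diag
  rw [linearIndependent_iff'] at hli
  have hsum : ψ I hI h e₀ z = ∑ m ∈ z.coeff.support, z.coeff m • (γ I hI h e₀ m).val := by
    conv_lhs => rw [← MonoidAlgebra.sum_coeff_single z, Finsupp.sum, map_sum]
    exact Finset.sum_congr rfl fun m _ => ψ_single I hI h e₀ m _
  have h1 : ∑ m ∈ z.coeff.support, algebraMap R (c i).S (z.coeff m) •
      ((1 : (c i).S) ⊗ₜ[R] (γ I hI h e₀ m).val) = 0 := by
    have h0 : (1 : (c i).S) ⊗ₜ[R] (ψ I hI h e₀ z) = 0 := by rw [hz, TensorProduct.tmul_zero]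
    rw [hsum, TensorProduct.tmul_sum] at h0
    rw [← h0]
    refine Finset.sum_congr rfl fun m _ => ?_
    rw [TensorProduct.tmul_smul, algebraMap_smul]
  have h2 := hli z.coeff.support (fun m => algebraMap R (c i).S (z.coeff m)) h1
  have h3 : algebraMap R (c i).S (z.coeff m) = 0 := by
    by_cases hm : m ∈ z.coeff.support
    · exact h2 m hm
    · rw [Finsupp.notMem_support_iff.mp hm, map_zero]
  have h4 : (1 : (c i).S) ⊗ₜ[R] (z.coeff m : R) =
      (algebraMap R (c i).S (z.coeff m)) ⊗ₜ[R] (1 : R) := by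
    rw [Algebra.algebraMap_eq_smul_one, TensorProduct.smul_tmul, smul_eq_mul, mul_one]
  rw [h4, h3, TensorProduct.zero_tmul]

include hI h in
theorem ψ_surjective : Function.Surjective (ψ I hI h e₀) := by
  obtain ⟨ι, _, _, c, hJF⟩ := IsMultType.exists_charts h
  intro a
  set N : Submodule R A :=
    LinearMap.range ((ψ I hI h e₀ : MonoidAlgebra R M →ₐ[R] A).toLinearMap) with hN
  have hγN : ∀ m, (γ I hI h e₀ m).val ∈ N := fun m =>
    ⟨MonoidAlgebra.single m 1, by
      show ψ I hI h e₀ (MonoidAlgebra.single m 1) = _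
      rw [ψ_single, one_smul]⟩
  suffices ha : a ∈ N by
    obtain ⟨z, hz⟩ := ha
    exact ⟨z, hz⟩
  rw [← Submodule.Quotient.mk_eq_zero N]
  apply eq_zero_of_family (fun i => (c i).S) (A ⧸ N) hJF
  intro i
  obtain ⟨-, hsp⟩ := chart_basis I hI h e₀ (c i).S (c i).diag
  have hle : Submodule.span (c i).S
      (Set.range fun m => (1 : (c i).S) ⊗ₜ[R] (γ I hI h e₀ m).val) ≤
        LinearMap.ker ((Submodule.mkQ N).baseChange (c i).S) := by
    rw [Submodule.span_le]
    rintro _ ⟨m, rfl⟩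
    rw [SetLike.mem_coe, LinearMap.mem_ker, LinearMap.baseChange_tmul, Submodule.mkQ_apply,
      (Submodule.Quotient.mk_eq_zero N).mpr (hγN m), TensorProduct.tmul_zero]
  have h1 : (1 : (c i).S) ⊗ₜ[R] a ∈ LinearMap.ker ((Submodule.mkQ N).baseChange (c i).S) :=
    hle (by rw [hsp]; exact Submodule.mem_top)
  rw [LinearMap.mem_ker, LinearMap.baseChange_tmul] at h1
  exact h1

end Final

end Construction

section Main

variable {R : Type u} [CommRing R] {A : Type u} [CommRing A] [HopfAlgebra R A]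

/-- A group of multiplicative type which is diagonalisable modulo a nil ideal is diagonalisable. -/
theorem isDiag_of_isDiag_mod_nil' (I : Ideal R) (hI : ∀ x ∈ I, IsNilpotent x)
    (h : IsMultType R A) (h0 : IsDiag (R ⧸ I) ((R ⧸ I) ⊗[R] A)) : IsDiag R A := by
  obtain ⟨M, _, ⟨e₀⟩⟩ := h0
  exact ⟨M, inferInstance, ⟨(BialgEquiv.ofBijective (ψ I hI h e₀)
    ⟨ψ_injective I hI h e₀, ψ_surjective I hI h e₀⟩).symm⟩⟩

end Main

end Groth.Agent.Lib.Helper6.Lift
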